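import Mathlib.Algebra.CharP.Lemmas
import Mathlib.Algebra.CharP.Basic
import Mathlib.LinearAlgebra.FreeModule.Basic
import Mathlib.RingTheory.Flat.Basic
import Mathlib.RingTheory.TensorProduct.Basic
import Mathlib.Algebra.MonoidAlgebra.Basic
import Mathlib.LinearAlgebra.TensorProduct.RightExactness
import Mathlib.LinearAlgebra.FreeModule.Finite.Basic
import Mathlib.RingTheory.Ideal.Operations
import Mathlib.RingTheory.Ideal.Maps
import Mathlib.LinearAlgebra.Finsupp.Span
import Mathlib.Algebra.Module.Projective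

/-!
Resolutions over perfect rings stay exact modulo Frobenius closed ideals.
-/

set_option autoImplicit false
set_option linter.style.haveILetI false

universe u v w

open TensorProduct

namespace Groth.Agent.PerfTor

/-- a perfect ring of characteristic `p` (possibly zero) -/
structure Perf (p : ℕ) (R : Type*) [CommRing R] : Prop where
  char : (p : R) = 0
  bij : Function.Bijective fun x : R => x ^ p

variable {p : ℕ} [hp : Fact p.Prime]

lemma add_pow_p {R : Type*} [CommRing R] (h : (p : R) = 0) (x y : R) : (x + y) ^ p = x ^ p + y ^ p := by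
  rcases subsingleton_or_nontrivial R with _ | _
  · exact Subsingleton.elim _ _
  · haveI : CharP R p := (CharP.charP_iff_prime_eq_zero hp.out).2 h
    exact add_pow_char x y p

/-- `p`-th roots -/
noncomputable def root {R : Type*} [CommRing R] (h : Perf p R) : R →+* R where
  toFun x := (h.bij.2 x).choose
  map_one' := h.bij.1 (by simp only [(h.bij.2 1).choose_spec, one_pow])
  map_mul' x y := h.bij.1 (by
    simp only [mul_pow, (h.bij.2 (x * y)).choose_spec, (h.bij.2 x).choose_spec, (h.bij.2 y).choose_spec])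
  map_zero' := h.bij.1 (by simp only [(h.bij.2 0).choose_spec, zero_pow hp.out.ne_zero])
  map_add' x y := h.bij.1 (by
    simp only [add_pow_p h.char, (h.bij.2 (x + y)).choose_spec, (h.bij.2 x).choose_spec,
      (h.bij.2 y).choose_spec])

lemma root_pow {R : Type*} [CommRing R] (h : Perf p R) (x : R) : root h x ^ p = x := (h.bij.2 x).choose_spec

lemma pow_root {R : Type*} [CommRing R] (h : Perf p R) (x : R) : root h (x ^ p) = x := h.bij.1 (root_pow h (x ^ p))

/-- perfection from an additive root -/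
lemma perf_of_root {R : Type*} [CommRing R] (h0 : (p : R) = 0) (r : R → R) (h1 : ∀ x, r x ^ p = x)
    (h2 : ∀ x, r (x ^ p) = x) : Perf p R :=
  ⟨h0, fun x y h => (h2 x).symm.trans ((congrArg r h).trans (h2 y)), fun x => ⟨r x, h1 x⟩⟩

section Ideal

variable {R : Type u} [CommRing R]

/-- Frobenius closed ideals -/
def FC (p : ℕ) (I : Ideal R) : Prop := ∀ x, x ^ p ∈ I → x ∈ I

lemma fc_bot (h : Perf p R) : FC p (⊥ : Ideal R) := fun x hx => by
  refine (Submodule.mem_bot R).2 (h.bij.1 (a₁ := x) (a₂ := 0) ?_)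
  simpa [zero_pow hp.out.ne_zero] using hx

/-- the powers `g^{1/p^n}` -/
noncomputable def rootSeq (h : Perf p R) (g : R) : ℕ → R
  | 0 => g
  | n + 1 => root h (rootSeq h g n)

lemma rootSeq_succ_pow (h : Perf p R) (g : R) (n : ℕ) : rootSeq h g (n + 1) ^ p = rootSeq h g n := root_pow h _

lemma rootSeq_dvd (h : Perf p R) (g : R) {n m : ℕ} (hnm : n ≤ m) : rootSeq h g m ∣ rootSeq h g n := by
  induction m, hnm using Nat.le_induction with
  | base => exact dvd_rfl
  | succ m _ ih =>
    refine dvd_trans ?_ ih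
    rw [← rootSeq_succ_pow h g m]
    exact dvd_pow_self _ hp.out.ne_zero

/-- adjoining all roots of an element -/
noncomputable def adjoinRoots (h : Perf p R) (I : Ideal R) (g : R) : Ideal R :=
  I ⊔ Ideal.span (Set.range (rootSeq h g))

lemma mem_span_rootSeq (h : Perf p R) (g : R) {x : R} (hx : x ∈ Ideal.span (Set.range (rootSeq h g))) :
    ∃ n a, x = rootSeq h g n * a := by
  induction hx using Submodule.span_induction with
  | mem x hx => obtain ⟨n, rfl⟩ := hx; exact ⟨n, 1, (mul_one _).symm⟩
  | zero => exact ⟨0, 0, (mul_zero _).symm⟩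
  | add x y _ _ hx hy =>
    obtain ⟨n, a, rfl⟩ := hx
    obtain ⟨m, b, rfl⟩ := hy
    obtain ⟨a', ha⟩ := rootSeq_dvd h g (le_max_left n m)
    obtain ⟨b', hb⟩ := rootSeq_dvd h g (le_max_right n m)
    exact ⟨max n m, a' * a + b' * b, by rw [ha, hb]; ring⟩
  | smul c x _ hx =>
    obtain ⟨n, a, rfl⟩ := hx
    exact ⟨n, c * a, by rw [smul_eq_mul]; ring⟩

lemma fc_adjoinRoots (h : Perf p R) {I : Ideal R} (hI : FC p I) (g : R) : FC p (adjoinRoots h I g) := by
  intro x hx
  obtain ⟨i, hi, j, hj, hij⟩ := Submodule.mem_sup.1 hx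
  obtain ⟨n, a, rfl⟩ := mem_span_rootSeq h g hj
  rw [← pow_root h x, ← hij, map_add, map_mul]
  refine Submodule.add_mem_sup (hI _ (by rw [root_pow]; exact hi)) ?_
  exact Ideal.mul_mem_right _ _ (Ideal.subset_span ⟨n + 1, rfl⟩)

lemma fc_map {S : Type v} [CommRing S] [Algebra R S] (hR : Perf p R) (hS : Perf p S) {I : Ideal R}
    (hI : FC p I) : FC p (I.map (algebraMap R S)) := by
  intro x hx
  rw [← pow_root hS x]
  refine Submodule.span_induction (p := fun y _ => root hS y ∈ I.map (algebraMap R S)) ?_ (by simp)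
    (fun a b _ _ ha hb => by rw [map_add]; exact add_mem ha hb)
    (fun c y _ hy => by rw [smul_eq_mul, map_mul]; exact Ideal.mul_mem_left _ _ hy) hx
  rintro _ ⟨i, hi, rfl⟩
  have e : root hS (algebraMap R S i) = algebraMap R S (root hR i) := hS.bij.1 (by
    change root hS _ ^ p = algebraMap R S _ ^ p
    rw [root_pow, ← map_pow, root_pow])
  rw [e]
  exact Ideal.mem_map_of_mem _ (hI _ (by rw [root_pow]; exact hi))

/-- modules on which `a^p m = 0` forces `a m = 0`, modulo `I` -/
def RedMod (p : ℕ) (I : Ideal R) {M : Type v} [AddCommGroup M] [Module R M] (N : Submodule R M) : Prop :=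
  ∀ (a : R) (m : M), a ^ p • m ∈ N ⊔ I • (⊤ : Submodule R M) → a • m ∈ N ⊔ I • (⊤ : Submodule R M)

lemma redMod_projective {M : Type v} [AddCommGroup M] [Module R M] [Module.Projective R M] {I : Ideal R}
    (hI : FC p I) : RedMod p I (⊥ : Submodule R M) := by
  obtain ⟨s, hs⟩ := (Module.projective_def (R := R) (P := M)).1 inferInstance
  have key : ∀ m : M, m ∈ I • (⊤ : Submodule R M) ↔ ∀ k, s m k ∈ I := by
    intro m
    refine ⟨fun hm => ?_, fun hm => ?_⟩
    · refine Submodule.smul_induction_on hm (fun a ha b _ => ?_) fun a b ha hb => ?_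
      · intro k; simpa using I.mul_mem_right _ ha
      · intro k; simpa using add_mem (ha k) (hb k)
    · rw [← hs m, Finsupp.linearCombination_apply]
      exact Submodule.sum_mem _ fun k _ => Submodule.smul_mem_smul (hm k) trivial
  intro a m h
  rw [bot_sup_eq, key] at h ⊢
  intro k
  have h' : a ^ p * s m k ∈ I := by simpa using h k
  refine hI _ ?_
  have e : (a • m : M) = a • m := rfl
  rw [map_smul, Finsupp.smul_apply, smul_eq_mul, mul_pow, ← Nat.sub_add_cancel hp.out.one_le, pow_succ (s m k),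
    ← mul_assoc, mul_comm (a ^ _) ((s m k) ^ _), mul_assoc, Nat.sub_add_cancel hp.out.one_le]
  exact I.mul_mem_left _ h'

end Ideal

section Complex

variable {R : Type u} [CommRing R] {M : ℕ → Type v} [∀ n, AddCommGroup (M n)] [∀ n, Module R (M n)]
  (d : ∀ n, M (n + 1) →ₗ[R] M n)

/-- exactness in positive degrees modulo `I` -/
def Ex (I : Ideal R) : Prop :=
  ∀ n (x : M (n + 1)), d n x ∈ I • (⊤ : Submodule R (M n)) →
    ∃ w, x - d (n + 1) w ∈ I • (⊤ : Submodule R (M (n + 1)))

lemma mem_adjoinRoots_smul (h : Perf p R) {I : Ideal R} {g : R} {N : Type v} [AddCommGroup N] [Module R N]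
    {x : N} (hx : x ∈ adjoinRoots h I g • (⊤ : Submodule R N)) :
    ∃ n y, x - rootSeq h g n • y ∈ I • (⊤ : Submodule R N) := by
  refine Submodule.smul_induction_on hx (fun a ha m _ => ?_) fun a b ha hb => ?_
  · obtain ⟨i, hi, j, hj, rfl⟩ := Submodule.mem_sup.1 ha
    obtain ⟨n, b, rfl⟩ := mem_span_rootSeq h g hj
    exact ⟨n, b • m, by rw [add_smul, mul_smul, add_sub_cancel_right]; exact Submodule.smul_mem_smul hi trivial⟩
  · obtain ⟨n, y, hy⟩ := ha
    obtain ⟨m, z, hz⟩ := hb
    obtain ⟨a', ha'⟩ := rootSeq_dvd h g (le_max_left n m)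
    obtain ⟨b', hb'⟩ := rootSeq_dvd h g (le_max_right n m)
    refine ⟨max n m, a' • y + b' • z, ?_⟩
    rw [smul_add, ← mul_smul, ← mul_smul, ← ha', ← hb', add_sub_add_comm]
    exact add_mem hy hz

lemma smul_mem_adjoinRoots (h : Perf p R) (I : Ideal R) (g : R) (n : ℕ) {N : Type v} [AddCommGroup N]
    [Module R N] (y : N) : rootSeq h g n • y ∈ adjoinRoots h I g • (⊤ : Submodule R N) :=
  Submodule.smul_mem_smul (Submodule.mem_sup_right (Ideal.subset_span ⟨n, rfl⟩)) trivial

variable (hdd : ∀ n x, d n (d (n + 1) x) = 0)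
include hdd

/-- adjoining the roots of one element keeps the complex exact -/
theorem ex_adjoinRoots (h : Perf p R) {I : Ideal R} (hI : Ex d I)
    (hR : ∀ n, RedMod p I (⊥ : Submodule R (M n))) (hR0 : RedMod p I (LinearMap.range (d 0))) (g : R) :
    Ex d (adjoinRoots h I g) := by
  intro n x hx
  obtain ⟨m, y, hy⟩ := mem_adjoinRoots_smul h hx
  let g₁ := rootSeq h g (m + 1)
  let y₁ := g₁ ^ (p - 1) • y
  have hp1 : p - 1 + 1 = p := Nat.sub_add_cancel hp.out.one_le
  have hg : rootSeq h g m = g₁ * g₁ ^ (p - 1) := by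
    rw [← pow_succ', hp1]; exact (rootSeq_succ_pow h g m).symm
  have hle : I ≤ adjoinRoots h I g := le_sup_left
  -- a lift `z` of `y`, up to roots of `g`
  suffices ∃ (k : ℕ) (z : M (n + 1)), d n x - d n (rootSeq h g k • z) ∈ I • (⊤ : Submodule R (M n)) by
    obtain ⟨k, z, hz⟩ := this
    rw [← map_sub] at hz
    obtain ⟨w, hw⟩ := hI n _ hz
    refine ⟨w, ?_⟩
    have e : x - d (n + 1) w = (x - rootSeq h g k • z - d (n + 1) w) + rootSeq h g k • z := by abel
    rw [e]
    exact add_mem (Submodule.smul_mono_left hle hw) (smul_mem_adjoinRoots h I g k z)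
  rw [hg, mul_smul] at hy
  match n, x, y, y₁, hy with
  | 0, x, y, _, hy =>
    -- the image of `y` in `H₀` is killed by all roots
    let g₂ := rootSeq h g (m + 2)
    have hg' : g₁ = g₂ * g₂ ^ (p - 1) := by
      rw [← pow_succ', hp1]; exact (rootSeq_succ_pow h g (m + 1)).symm
    have h1 : g₂ ^ p • (g₁ ^ (p - 1) • y) ∈ LinearMap.range (d 0) ⊔ I • (⊤ : Submodule R (M 0)) := by
      rw [show g₂ ^ p = g₁ from rootSeq_succ_pow h g (m + 1)]
      have := Submodule.sub_mem (LinearMap.range (d 0) ⊔ I • (⊤ : Submodule R (M 0)))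
        (Submodule.mem_sup_left (LinearMap.mem_range_self (d 0) x)) (Submodule.mem_sup_right hy)
      simpa using this
    obtain ⟨_, ⟨z, rfl⟩, r, hr, hzr⟩ := Submodule.mem_sup.1 (hR0 _ _ h1)
    refine ⟨m + 2, g₂ ^ (p - 2) • z, ?_⟩
    have e : g₁ • g₁ ^ (p - 1) • y = rootSeq h g (m + 2) • g₂ ^ (p - 2) • (d 0 z + r) := by
      rw [hzr]
      simp only [← mul_smul, ← mul_assoc]
      congr 2
      rw [hg', show p - 1 = p - 2 + 1 by have := hp.out.two_le; omega, pow_succ]
      ring
    have e' : d 0 x - d 0 (rootSeq h g (m + 2) • g₂ ^ (p - 2) • z) =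
        (d 0 x - g₁ • g₁ ^ (p - 1) • y) + rootSeq h g (m + 2) • g₂ ^ (p - 2) • r := by
      rw [e, map_smul, map_smul, smul_add, smul_add]; abel
    rw [e']
    exact add_mem hy (Submodule.smul_mem _ _ (Submodule.smul_mem _ _ hr))
  | n + 1, x, y, _, hy =>
    have h1 : g₁ ^ p • d n y ∈ (⊥ : Submodule R (M n)) ⊔ I • (⊤ : Submodule R (M n)) := by
      rw [bot_sup_eq]
      have := (Submodule.smul_top_le_comap_smul_top I (d n)) hy
      rw [Submodule.mem_comap, map_sub, hdd, zero_sub, Submodule.neg_mem_iff, map_smul, map_smul, ← mul_smul,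
        ← pow_succ', hp1] at this
      exact this
    have h2 := hR n _ _ h1
    rw [bot_sup_eq] at h2
    have h3 : d n (g₁ ^ (p - 1) • y) ∈ I • (⊤ : Submodule R (M n)) := by
      rw [map_smul, show p - 1 = p - 2 + 1 by have := hp.out.two_le; omega, pow_succ, mul_smul]
      exact Submodule.smul_mem _ _ h2
    obtain ⟨z, hz⟩ := hI n _ h3
    refine ⟨m + 1, z, ?_⟩
    have e' : d (n + 1) x - d (n + 1) (rootSeq h g (m + 1) • z) =
        (d (n + 1) x - g₁ • g₁ ^ (p - 1) • y) + g₁ • (g₁ ^ (p - 1) • y - d (n + 1) z) := by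
      rw [map_smul, smul_sub]; abel
    rw [e']
    exact add_mem hy (Submodule.smul_mem _ _ hz)

/-- **exactness modulo a Frobenius closed ideal** -/
theorem ex_of_fc (h : Perf p R) (h0 : Ex d (⊥ : Ideal R))
    (hR : ∀ (I : Ideal R), FC p I → ∀ n, RedMod p I (⊥ : Submodule R (M n)))
    (hR0 : ∀ (I : Ideal R), FC p I → RedMod p I (LinearMap.range (d 0))) {I : Ideal R} (hI : FC p I) :
    Ex d I := by
  classical
  have key : ∀ S : Finset R, ↑S ⊆ (I : Set R) →
      ∃ J : Ideal R, J ≤ I ∧ ↑S ⊆ (J : Set R) ∧ FC p J ∧ Ex d J := by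
    intro S
    induction S using Finset.induction_on with
    | empty => exact fun _ => ⟨⊥, bot_le, by simp, fc_bot h, h0⟩
    | insert g S _ ih =>
      intro hS
      rw [Finset.coe_insert, Set.insert_subset_iff] at hS
      obtain ⟨J, hJI, hSJ, hJ, hEx⟩ := ih hS.2
      refine ⟨adjoinRoots h J g, sup_le hJI (Ideal.span_le.2 ?_), ?_, fc_adjoinRoots h hJ g,
        ex_adjoinRoots d hdd h hEx (hR J hJ) (hR0 J hJ) g⟩
      · rintro _ ⟨n, rfl⟩
        induction n with
        | zero => exact hS.1
        | succ n ih => exact hI _ (by rw [rootSeq_succ_pow]; exact ih)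
      · rw [Finset.coe_insert, Set.insert_subset_iff]
        exact ⟨Submodule.mem_sup_right (Ideal.subset_span ⟨0, rfl⟩), hSJ.trans fun y hy => Submodule.mem_sup_left hy⟩
  intro n x hx
  have hfin : ∃ S : Finset R, ↑S ⊆ (I : Set R) ∧ d n x ∈ Ideal.span (S : Set R) • (⊤ : Submodule R (M n)) := by
    refine Submodule.smul_induction_on hx (fun a ha b _ => ?_) fun a b ha hb => ?_
    · exact ⟨{a}, by simpa using ha, Submodule.smul_mem_smul (Ideal.subset_span (by simp)) trivial⟩
    · obtain ⟨S, hS, ha⟩ := ha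
      obtain ⟨T, hT, hb⟩ := hb
      refine ⟨S ∪ T, by rw [Finset.coe_union]; exact Set.union_subset hS hT, add_mem ?_ ?_⟩
      · exact Submodule.smul_mono_left (Ideal.span_mono (by simp)) ha
      · exact Submodule.smul_mono_left (Ideal.span_mono (by simp)) hb
  obtain ⟨S, hS, hxS⟩ := hfin
  obtain ⟨J, hJI, hSJ, -, hEx⟩ := key S hS
  obtain ⟨w, hw⟩ := hEx n x (Submodule.smul_mono_left (Ideal.span_le.2 hSJ) hxS)
  exact ⟨w, Submodule.smul_mono_left hJI hw⟩

end Complex

section Algebras

variable {A : Type u} [CommRing A]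

/-- tensor products of perfect algebras over a perfect ring -/
theorem perf_tensor {B : Type v} {C : Type w} [CommRing B] [CommRing C] [Algebra A B] [Algebra A C]
    (hA : Perf p A) (hB : Perf p B) (hC : Perf p C) : Perf p (B ⊗[A] C) := by
  have hchar : (p : B ⊗[A] C) = 0 := by
    rw [← map_natCast (algebraMap A (B ⊗[A] C)), hA.char, map_zero]
  let φ : B →+ C →+ B ⊗[A] C :=
    AddMonoidHom.mk' (fun b => AddMonoidHom.mk' (fun c => root hB b ⊗ₜ root hC c) fun c c' => by
      rw [map_add, TensorProduct.tmul_add]) fun b b' => by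
      ext c; simp [TensorProduct.add_tmul]
  let r : B ⊗[A] C →+ B ⊗[A] C := TensorProduct.liftAddHom φ fun a b c => by
    have e1 : root hB (a • b) = root hA a • root hB b := hB.bij.1 (by simp only [smul_pow, root_pow])
    have e2 : root hC (a • c) = root hA a • root hC c := hC.bij.1 (by simp only [smul_pow, root_pow])
    change root hB (a • b) ⊗ₜ root hC c = root hB b ⊗ₜ root hC (a • c)
    rw [e1, e2, TensorProduct.smul_tmul]
  refine perf_of_root hchar r (fun z => ?_) fun z => ?_
  · induction z using TensorProduct.induction_on with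
    | zero => simp [zero_pow hp.out.ne_zero]
    | tmul b c =>
      change (root hB b ⊗ₜ[A] root hC c) ^ p = _
      rw [Algebra.TensorProduct.tmul_pow, root_pow, root_pow]
    | add a b ha hb => rw [map_add, add_pow_p hchar, ha, hb]
  · induction z using TensorProduct.induction_on with
    | zero => simp [zero_pow hp.out.ne_zero]
    | tmul b c =>
      rw [Algebra.TensorProduct.tmul_pow]
      change root hB (b ^ p) ⊗ₜ[A] root hC (c ^ p) = _
      rw [pow_root, pow_root]
    | add a b ha hb => rw [add_pow_p hchar, map_add, ha, hb]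

/-- monoid algebras of perfect rings over their multiplicative monoids are perfect -/
theorem perf_monoidAlgebra {B : Type v} [CommRing B] (hA : Perf p A) (hB : Perf p B) :
    Perf p (MonoidAlgebra A B) := by
  have hchar : (p : MonoidAlgebra A B) = 0 := by
    rw [← map_natCast (algebraMap A (MonoidAlgebra A B)), hA.char, map_zero]
  refine ⟨hchar, ?_, ?_⟩
  · intro x y hxy
    have key : ∀ z : MonoidAlgebra A B, ∀ b, (z ^ p).coeff (b ^ p) = z.coeff b ^ p := by
      intro z b
      induction z using MonoidAlgebra.induction_linear with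
      | zero => simp [zero_pow hp.out.ne_zero]
      | single c a =>
        rw [MonoidAlgebra.single_pow]
        by_cases hc : c = b
        · subst hc; simp
        · rw [MonoidAlgebra.coeff_single, MonoidAlgebra.coeff_single, Finsupp.single_eq_of_ne' (fun e => hc (hB.bij.1 e)),
            Finsupp.single_eq_of_ne' hc, zero_pow hp.out.ne_zero]
      | add a c ha hc => simp only [add_pow_p hchar, MonoidAlgebra.coeff_add, Finsupp.add_apply, ha, hc,
          add_pow_p hA.char]
    refine MonoidAlgebra.ext (Finsupp.ext fun b => hA.bij.1 ?_)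
    change x.coeff b ^ p = y.coeff b ^ p
    rw [← key, ← key]
    exact congrArg (fun t : MonoidAlgebra A B => t.coeff (b ^ p)) hxy
  · intro z
    induction z using MonoidAlgebra.induction_linear with
    | zero => exact ⟨0, zero_pow hp.out.ne_zero⟩
    | single c a =>
      exact ⟨MonoidAlgebra.single (root hB c) (root hA a), by simp [MonoidAlgebra.single_pow, root_pow]⟩
    | add a c ha hc =>
      obtain ⟨a', rfl⟩ := ha
      obtain ⟨c', rfl⟩ := hc
      exact ⟨a' + c', add_pow_p hchar a' c'⟩

/-- **Tor independence of perfect algebras**, for a resolution of the second one -/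
theorem exact_tensor {B C : Type u} [CommRing B] [CommRing C] [Algebra A B] [Algebra A C]
    (hA : Perf p A) (hB : Perf p B) (hC : Perf p C) {F : ℕ → Type u} [∀ n, AddCommGroup (F n)]
    [∀ n, Module A (F n)] [∀ n, Module.Projective A (F n)] (d : ∀ n, F (n + 1) →ₗ[A] F n)
    (hd : ∀ n, Function.Exact (d (n + 1)) (d n)) (ε : F 0 →ₗ[A] C) (hε : Function.Exact (d 0) ε)
    (hs : Function.Surjective ε) (n : ℕ) :
    Function.Exact ((d (n + 1)).lTensor B) ((d n).lTensor B) := by
  classical
  have : Module.Free A (MonoidAlgebra A B) := inferInstance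
  let T := MonoidAlgebra A B
  have hT : Perf p T := perf_monoidAlgebra hA hB
  let π : T →ₐ[A] B := MonoidAlgebra.lift A B B (MonoidHom.id B)
  have hπ : Function.Surjective π := fun b => ⟨MonoidAlgebra.single b 1, (MonoidAlgebra.lift_single _ _ _).trans (one_smul A b)⟩
  let M := fun k => T ⊗[A] F k
  let D : ∀ k, M (k + 1) →ₗ[T] M k := fun k => (d k).baseChange T
  have hDD : ∀ k, Function.Exact (D (k + 1)) (D k) := fun k => Module.Flat.lTensor_exact (M := T) (hd k)
  have hεT : Function.Exact (D 0) (ε.baseChange T) := Module.Flat.lTensor_exact (M := T) hε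
  have hdd : ∀ k x, D k (D (k + 1) x) = 0 := fun k x => (hDD k).apply_apply_eq_zero x
  have h0 : Ex D (⊥ : Ideal T) := fun k x hx => by
    rw [Submodule.bot_smul, Submodule.mem_bot] at hx
    obtain ⟨w, rfl⟩ := (hDD k x).1 hx
    exact ⟨w, by simp⟩
  have hR : ∀ I : Ideal T, FC p I → ∀ k, RedMod p I (⊥ : Submodule T (M k)) := fun I hI k =>
    redMod_projective hI
  have hC' : Perf p (T ⊗[A] C) := perf_tensor hA hT hC
  have hR0 : ∀ I : Ideal T, FC p I → RedMod p I (LinearMap.range (D 0)) := by
    intro I hI a m hm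
    have hker : LinearMap.ker (ε.baseChange T) = LinearMap.range (D 0) := hεT.linearMap_ker_eq
    have hsurj : Function.Surjective (ε.baseChange T) := LinearMap.lTensor_surjective T hs
    have hmap : Submodule.map (ε.baseChange T) (I • ⊤) = (I • ⊤ : Submodule T (T ⊗[A] C)) := by
      rw [Submodule.map_smul'', Submodule.map_top, LinearMap.range_eq_top.2 hsurj]
    have key : ∀ q : M 0, q ∈ LinearMap.range (D 0) ⊔ I • (⊤ : Submodule T (M 0)) ↔
        ε.baseChange T q ∈ (I.map (algebraMap T (T ⊗[A] C)) : Ideal (T ⊗[A] C)) := by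
      intro q
      rw [← hker, sup_comm, ← Submodule.comap_map_eq, Submodule.mem_comap, hmap, Ideal.smul_top_eq_map]
      rfl
    rw [key, map_smul, Algebra.smul_def] at hm ⊢
    refine fc_map hT hC' hI _ ?_
    rw [mul_pow, ← map_pow, ← Nat.sub_add_cancel hp.out.one_le, pow_succ (ε.baseChange T m), ← mul_assoc,
      mul_comm (algebraMap T (T ⊗[A] C) _) (_ ^ _), mul_assoc, Nat.sub_add_cancel hp.out.one_le]
    exact Ideal.mul_mem_left _ _ hm
  have hI : FC p (RingHom.ker π) := fun x hx => by
    rw [RingHom.mem_ker] at hx ⊢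
    refine hB.bij.1 ?_
    simpa [zero_pow hp.out.ne_zero] using hx
  have hEx := ex_of_fc D hdd hT h0 hR hR0 hI n
  let q := fun k => π.toLinearMap.rTensor (F k)
  have hq : ∀ k, Function.Surjective (q k) := fun k => LinearMap.rTensor_surjective _ hπ
  have hcomm : ∀ k z, (d k).lTensor B (q (k + 1) z) = q k (D k z) := fun k z => by
    induction z using TensorProduct.induction_on with
    | zero => simp
    | tmul t f => rfl
    | add a b ha hb => simp only [map_add, ha, hb]
  have hqI : ∀ k z, z ∈ RingHom.ker π • (⊤ : Submodule T (M k)) → q k z = 0 := fun k z hz => by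
    refine Submodule.smul_induction_on hz (fun a ha m _ => ?_) fun a b ha hb => ?_
    · induction m using TensorProduct.induction_on with
      | zero => simp
      | tmul t f =>
        rw [TensorProduct.smul_tmul', smul_eq_mul]
        change π (a * t) ⊗ₜ[A] f = 0
        rw [map_mul, RingHom.mem_ker.1 ha, zero_mul, TensorProduct.zero_tmul]
      | add x y hx hy => rw [smul_add, map_add, hx trivial, hy trivial, add_zero]
    · rw [map_add, ha, hb, add_zero]
  have hkerq : ∀ k z, q k z = 0 → z ∈ RingHom.ker π • (⊤ : Submodule T (M k)) := fun k z hz => by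
    have hex : Function.Exact (LinearMap.ker π.toLinearMap).subtype π.toLinearMap :=
      LinearMap.exact_subtype_ker_map _
    obtain ⟨v, rfl⟩ := ((rTensor_exact (F k) hex hπ) z).1 hz
    induction v using TensorProduct.induction_on with
    | zero => simp
    | tmul i f =>
      have : ((i : T) ⊗ₜ[A] f) = (i : T) • ((1 : T) ⊗ₜ[A] f) := by
        rw [TensorProduct.smul_tmul', smul_eq_mul, mul_one]
      change ((i : T) ⊗ₜ[A] f) ∈ _
      rw [this]
      exact Submodule.smul_mem_smul i.2 trivial
    | add x y hx hy =>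
      rw [map_add]
      exact add_mem (hx (((rTensor_exact (F k) hex hπ) _).2 ⟨x, rfl⟩)) (hy (((rTensor_exact (F k) hex hπ) _).2 ⟨y, rfl⟩))
  intro x
  refine ⟨fun hx => ?_, ?_⟩
  · obtain ⟨z, rfl⟩ := hq (n + 1) x
    rw [hcomm] at hx
    obtain ⟨w, hw⟩ := hEx z (hkerq n _ hx)
    refine ⟨q (n + 2) w, ?_⟩
    rw [hcomm]
    have := hqI _ _ hw
    rw [map_sub, sub_eq_zero] at this
    exact this.symm
  · rintro ⟨w, rfl⟩
    rw [← LinearMap.comp_apply, ← LinearMap.lTensor_comp,
      show d n ∘ₗ d (n + 1) = 0 from LinearMap.ext fun y => (hd n).apply_apply_eq_zero y]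
    simp

end Algebras

end Groth.Agent.PerfTor
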